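import Groth.Agent.Lib.OmegaSheaf.Basic
import Groth.Agent.Lib.FlatFP.Sheaf
import Groth.Agent.Lib.Euler.LocFree
import Groth.Agent.Lib.Euler.Rank
import Groth.Prelude.Def_FlatMod2
import Mathlib

/-!
# Stalks and local freeness of the sheaf of differentials

* `nonempty_stalk_equiv`: the stalk of `Omega.sheaf f` at `x` is `Ω[O_{X,x}⁄O_{S,f x}]`.
* `isFinLocFreeOfRank_of_free_stalks`.
-/

universe u

open CategoryTheory AlgebraicGeometry

namespace GrothLib.OmegaFree

theorem bijective_map_of_subsingleton {A A' B : Type u} [CommRing A] [CommRing A'] [CommRing B]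
    [Algebra A A'] [Algebra A B] [Algebra A' B] [IsScalarTower A A' B] [Subsingleton Ω[A'⁄A]] :
    Function.Bijective (KaehlerDifferential.map A A' B B) := by
  refine ⟨(injective_iff_map_eq_zero _).2 fun z hz => ?_, KaehlerDifferential.map_surjective A A' B⟩
  obtain ⟨w, rfl⟩ := (KaehlerDifferential.exact_mapBaseChange_map A A' B z).1 hz
  rw [Subsingleton.elim w 0, map_zero]

theorem nonempty_stalk_equiv {X S : Scheme.{u}} (f : X ⟶ S) [QuasiSeparated f] (x : X) :
    letI := (f.stalkMap x).hom.toAlgebra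
    Nonempty ((Omega.sheaf f).presheaf.stalk x ≃ₗ[X.presheaf.stalk x]
      Ω[X.presheaf.stalk x⁄S.presheaf.stalk (f x)]) := by
  obtain ⟨V, hV, hxV, -⟩ := exists_isAffineOpen_mem_and_subset (x := f x) (U := ⊤) trivial
  obtain ⟨U, hU, hxU, hUV'⟩ := exists_isAffineOpen_mem_and_subset (x := x) (U := f ⁻¹ᵁ V) hxV
  have hUV : U ≤ f ⁻¹ᵁ V := hUV'
  haveI := GrothLib.OmegaSheaf.isQuasicoherent_sheaf f
  obtain ⟨e⟩ := GrothLib.OmegaSheaf.nonempty_sections_equiv f hU hV hUV
  let A := Γ(S, V); let B := Γ(X, U); let Oy := S.presheaf.stalk (f x); let Ox := X.presheaf.stalk x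
  letI : Algebra A B := (f.appLE V U hUV).hom.toAlgebra
  letI : Algebra Oy Ox := (f.stalkMap x).hom.toAlgebra
  letI : Algebra B Ox := X.presheaf.algebra_section_stalk ⟨x, hxU⟩
  letI : Algebra A Oy := S.presheaf.algebra_section_stalk ⟨f x, hxV⟩
  letI : Algebra A Ox := ((algebraMap B Ox).comp (algebraMap A B)).toAlgebra
  haveI : IsScalarTower A B Ox := IsScalarTower.of_algebraMap_eq fun _ => rfl
  haveI : IsScalarTower A Oy Ox := IsScalarTower.of_algebraMap_eq fun a => by
    show (X.presheaf.germ U x hxU).hom ((f.appLE V U hUV).hom a) =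
      (f.stalkMap x).hom ((S.presheaf.germ V (f x) hxV).hom a)
    simp only [← CommRingCat.comp_apply]
    rw [f.germ_stalkMap, Scheme.Hom.appLE, Category.assoc, X.presheaf.germ_res']
  let M := (WeakAss.primeAt x hxU).primeCompl
  haveI : IsLocalization M Ox := GrothLib.FlatFP.isLocalization_stalk_primeAt hU hxU
  haveI : IsLocalization.AtPrime Oy (hV.primeIdealOf ⟨f x, hxV⟩).asIdeal := hV.isLocalization_stalk ⟨f x, hxV⟩
  haveI : Algebra.FormallyEtale A Oy := .of_isLocalization (hV.primeIdealOf ⟨f x, hxV⟩).asIdeal.primeCompl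
  haveI : Subsingleton Ω[Oy⁄A] := inferInstance
  letI : Module B ((Omega.sheaf f).presheaf.stalk x) :=
    Module.compHom _ (X.presheaf.germ U x hxU).hom
  haveI : IsScalarTower B Ox ((Omega.sheaf f).presheaf.stalk x) :=
    IsScalarTower.of_algebraMap_smul fun _ _ => rfl
  obtain ⟨g, hg, -⟩ := GrothLib.FlatFP.isLocalizedModule_germ (F := Omega.sheaf f) hU hxU
  haveI := hg
  haveI : IsLocalizedModule M (KaehlerDifferential.map A A B Ox) := inferInstance
  let g' : Γ(Omega.sheaf f, U) →ₗ[B] Ω[Ox⁄A] := (KaehlerDifferential.map A A B Ox) ∘ₗ e.toLinearMap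
  haveI : IsLocalizedModule M g' := IsLocalizedModule.of_linearEquiv_right _ _ e
  let E : (Omega.sheaf f).presheaf.stalk x ≃ₗ[B] Ω[Ox⁄A] := IsLocalizedModule.linearEquiv M g g'
  exact ⟨(E.extendScalarsOfIsLocalization M Ox).trans
    (LinearEquiv.ofBijective (KaehlerDifferential.map A Oy Ox Ox) bijective_map_of_subsingleton)⟩

/-- coherent modules with free stalks of rank `n` are locally free of rank `n` -/
theorem isFinLocFreeOfRank_of_free_stalks {X : Scheme.{u}} [IsLocallyNoetherian X] {M : X.Modules}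
    (hM : Coh.IsCoh M) (n : ℕ)
    (h : ∀ x : X, Nonempty (Module.Basis (Fin n) (X.presheaf.stalk x) (M.presheaf.stalk x))) :
    FlatMod.IsFinLocFreeOfRank n M := by
  intro x
  obtain ⟨b⟩ := h x
  obtain ⟨D, e, hxD, he⟩ := GrothLib.Euler.exists_frame_of_stalk_basis hM b
  exact ⟨D, hxD, FinCov.exists_iso_of_frame he⟩

/-- stalk bases of locally free modules -/
theorem exists_basis_stalk {X : Scheme.{u}} {M : X.Modules} {n : ℕ}
    (hM : FlatMod.IsFinLocFreeOfRank n M) (x : X) :
    Nonempty (Module.Basis (Fin n) (X.presheaf.stalk x) (M.presheaf.stalk x)) := by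
  obtain ⟨D, e, hx, he⟩ := FinCov.exists_frame_nhd_of_rank hM x
  exact GrothLib.Euler.stalk_basis_of_frame he hx

end GrothLib.OmegaFree
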